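import Groth.Agent.Lib.FibreDimAt6.Smooth
import Mathlib

/-! # Fibre dimension and differentials of local rings of smooth morphisms -/

set_option autoImplicit false
set_option backward.isDefEq.respectTransparency false
set_option linter.style.haveILetI false

universe u
open CategoryTheory CategoryTheory.Limits AlgebraicGeometry Topology

namespace GrothLib.SmDim4

open GrothLib.FibreDimAt6

theorem fibreDimAt_eq_of_standardSmooth (n : ℕ) {X Y : Scheme.{u}} (f : X ⟶ Y) {V : Y.Opens} (hV : IsAffineOpen V)
    {W : X.Opens} (hW : IsAffineOpen W) (hsub : W ≤ f ⁻¹ᵁ V)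
    (hstd : RingHom.IsStandardSmoothOfRelativeDimension n (f.appLE V W hsub).hom) (x : X) (hxW : x ∈ W) :
    FlatMor.fibreDimAt f x = (n : WithBot ℕ∞) := by
  let R : CommRingCat.{u} := Γ(Y, V)
  let A : CommRingCat.{u} := Γ(X, W)
  obtain ⟨g, hg, het⟩ := RingHom.IsStandardSmoothOfRelativeDimension.exists_etale_mvPolynomial hstd
  letI := (f.appLE V W hsub).hom.toAlgebra
  letI := g.toAlgebra
  haveI : IsScalarTower R (MvPolynomial (Fin n) R) A := IsScalarTower.of_algebraMap_eq fun r =>
    (RingHom.congr_fun hg r).symm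
  haveI : Algebra.Etale (MvPolynomial (Fin n) R) A := het
  haveI : Algebra.FiniteType R A := Algebra.FiniteType.trans (S := MvPolynomial (Fin n) R) inferInstance inferInstance
  have hsq : hW.fromSpec ≫ f = Spec.map (CommRingCat.ofHom (algebraMap R A)) ≫ hV.fromSpec :=
    (hV.SpecMap_appLE_fromSpec f hW hsub).symm
  obtain ⟨q, hq⟩ : ∃ q : PrimeSpectrum A, hW.fromSpec q = x := hW.range_fromSpec.symm.subset hxW
  have hfs : f x = hV.fromSpec (PrimeSpectrum.comap (algebraMap R A) q) := by
    rw [← hq, ← Scheme.Hom.comp_apply, hsq]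
    rfl
  have key : ∀ (e : A), e ∉ q.asIdeal →
      topologicalKrullDim ↥(hW.fromSpec '' (PrimeSpectrum.basicOpen e : Set (PrimeSpectrum A)) ∩ f ⁻¹' {f x}) =
        (n : WithBot ℕ∞) := fun e he => by
    let ℓ : Spec (CommRingCat.of (Localization.Away e)) ⟶ Spec A :=
      Spec.map (CommRingCat.ofHom (algebraMap A (Localization.Away e)))
    haveI : IsOpenImmersion ℓ := IsOpenImmersion.of_isLocalization e
    have hr : Set.range (ℓ ≫ hW.fromSpec) = hW.fromSpec '' (PrimeSpectrum.basicOpen e : Set (PrimeSpectrum A)) := by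
      rw [Scheme.Hom.comp_base, TopCat.coe_comp, Set.range_comp]
      exact congrArg _ (PrimeSpectrum.localization_away_comap_range (Localization.Away e) e)
    have hj : (ℓ ≫ hW.fromSpec) ≫ f =
        Spec.map (CommRingCat.ofHom (algebraMap R (Localization.Away e))) ≫ hV.fromSpec := by
      rw [Category.assoc, hsq, ← Category.assoc, ← Spec.map_comp, ← CommRingCat.ofHom_comp,
        ← IsScalarTower.algebraMap_eq]
    rw [← hr, hfs, dim_trace f (ℓ ≫ hW.fromSpec) hV.fromSpec hj]
    exact dim_fiber_away_eq q e he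
  refine le_antisymm ?_ ?_
  · refine le_trans (fibreDimAt_le_of_open f x W hxW) (le_of_eq ?_)
    rw [← key 1 (fun h => q.isPrime.ne_top ((Ideal.eq_top_iff_one _).mpr h))]
    rw [PrimeSpectrum.basicOpen_one, TopologicalSpace.Opens.coe_top]
    exact congrArg (fun Z : Set X => topologicalKrullDim ↥(Z ∩ f ⁻¹' {f x}))
      ((Set.image_univ (f := hW.fromSpec)).trans hW.range_fromSpec).symm
  · obtain ⟨U, hxU, hU⟩ := fibreDimAt_attained f x
    obtain ⟨_, ⟨e, rfl⟩, he, hsubU⟩ := PrimeSpectrum.isTopologicalBasis_basic_opens.exists_subset_of_mem_open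
      (show q ∈ (hW.fromSpec ⁻¹' (U : Set X) : Set (PrimeSpectrum A)) from (congrArg (· ∈ (U : Set X)) hq).mpr hxU)
      (U.2.preimage hW.fromSpec.continuous)
    rw [← hU, ← key e he]
    exact (Topology.IsEmbedding.inclusion (Set.inter_subset_inter_left _
      (Set.image_subset_iff.mpr hsubU))).isInducing.topologicalKrullDim_le

theorem bijective_map_of_subsingleton {A A' B : Type u} [CommRing A] [CommRing A'] [CommRing B]
    [Algebra A A'] [Algebra A B] [Algebra A' B] [IsScalarTower A A' B] [Subsingleton (KaehlerDifferential A A')] :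
    Function.Bijective (KaehlerDifferential.map A A' B B) := by
  refine ⟨?_, KaehlerDifferential.map_surjective A A' B⟩
  rw [← LinearMap.ker_eq_bot, (KaehlerDifferential.exact_mapBaseChange_map A A' B).linearMap_ker_eq,
    LinearMap.range_eq_bot]
  exact LinearMap.ext fun z => by
    obtain rfl : z = 0 := Subsingleton.elim _ _
    simp

/-- The Kaehler module of the stalk map of a smooth morphism is free of rank the fibre dimension. -/
theorem kaehler_stalk {X Y : Scheme.{u}} (f : X ⟶ Y) [Smooth f] (x : X) :
    letI := (f.stalkMap x).hom.toAlgebra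
    Algebra.FormallySmooth (Y.presheaf.stalk (f x)) (X.presheaf.stalk x) ∧
    Module.Free (X.presheaf.stalk x) (KaehlerDifferential (Y.presheaf.stalk (f x)) (X.presheaf.stalk x)) ∧
    Module.Finite (X.presheaf.stalk x) (KaehlerDifferential (Y.presheaf.stalk (f x)) (X.presheaf.stalk x)) ∧
    FlatMor.fibreDimAt f x =
      ((Module.finrank (X.presheaf.stalk x)
        (KaehlerDifferential (Y.presheaf.stalk (f x)) (X.presheaf.stalk x)) : ℕ) : WithBot ℕ∞) := by
  obtain ⟨V, hV, U, hU, hxU, hUV, hstd⟩ := Smooth.exists_isStandardSmooth f x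
  let A := Γ(Y, V); let B := Γ(X, U); let Oy := Y.presheaf.stalk (f x); let Ox := X.presheaf.stalk x
  letI : Algebra A B := (f.appLE V U hUV).hom.toAlgebra
  letI : Algebra Oy Ox := (f.stalkMap x).hom.toAlgebra
  letI : Algebra B Ox := X.presheaf.algebra_section_stalk ⟨x, hxU⟩
  letI : Algebra A Oy := Y.presheaf.algebra_section_stalk ⟨f x, hUV hxU⟩
  letI : Algebra A Ox := ((algebraMap B Ox).comp (algebraMap A B)).toAlgebra
  haveI : IsScalarTower A B Ox := IsScalarTower.of_algebraMap_eq fun _ => rfl
  haveI : IsScalarTower A Oy Ox := IsScalarTower.of_algebraMap_eq fun a => by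
    show (X.presheaf.germ U x hxU).hom ((f.appLE V U hUV).hom a) =
      (f.stalkMap x).hom ((Y.presheaf.germ V (f x) (hUV hxU)).hom a)
    simp only [← CommRingCat.comp_apply]
    rw [f.germ_stalkMap, Scheme.Hom.appLE, Category.assoc, X.presheaf.germ_res']
  haveI : Algebra.IsStandardSmooth A B := hstd
  let M := (hU.primeIdealOf ⟨x, hxU⟩).asIdeal.primeCompl
  haveI : IsLocalization M Ox := hU.isLocalization_stalk ⟨x, hxU⟩
  haveI : IsLocalization.AtPrime Oy (hV.primeIdealOf ⟨f x, hUV hxU⟩).asIdeal :=
    hV.isLocalization_stalk ⟨f x, hUV hxU⟩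
  haveI : Algebra.FormallyEtale A Oy :=
    .of_isLocalization (hV.primeIdealOf ⟨f x, hUV hxU⟩).asIdeal.primeCompl
  haveI : Subsingleton (KaehlerDifferential A Oy) := inferInstance
  haveI : IsLocalizedModule M (KaehlerDifferential.map A A B Ox) := inferInstance
  haveI : Algebra.FormallySmooth B Ox := Algebra.FormallySmooth.of_isLocalization M
  haveI : Algebra.FormallySmooth A Ox := Algebra.FormallySmooth.comp A B Ox
  haveI hfs : Algebra.FormallySmooth Oy Ox := Algebra.FormallySmooth.of_restrictScalars A Oy Ox
  obtain ⟨ι, σ, hσ, hι, ⟨P⟩⟩ := Algebra.IsStandardSmooth.out (R := A) (S := B)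
  haveI hrel : Algebra.IsStandardSmoothOfRelativeDimension P.dimension A B :=
    ⟨ι, σ, hσ, hι, P, rfl⟩
  let e : KaehlerDifferential A Ox ≃ₗ[Ox] KaehlerDifferential Oy Ox :=
    LinearEquiv.ofBijective (KaehlerDifferential.map A Oy Ox Ox) bijective_map_of_subsingleton
  haveI : Nontrivial B := (X.presheaf.germ U x hxU).hom.domain_nontrivial
  have hb := Module.Free.chooseBasis B (KaehlerDifferential A B)
  let b' := hb.ofIsLocalizedModule Ox M (KaehlerDifferential.map A A B Ox)
  haveI : Module.Free Ox (KaehlerDifferential A Ox) := Module.Free.of_basis b'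
  haveI : Module.Finite Ox (KaehlerDifferential A Ox) := Module.Finite.of_basis b'
  refine ⟨hfs, Module.Free.of_equiv e, Module.Finite.equiv e, ?_⟩
  rw [fibreDimAt_eq_of_standardSmooth P.dimension f hV hU hUV hrel x hxU, ← e.finrank_eq,
    Module.finrank_eq_card_basis b', ← Module.finrank_eq_card_basis hb]
  have h : Module.rank B (KaehlerDifferential A B) = P.dimension :=
    Algebra.IsStandardSmoothOfRelativeDimension.rank_kaehlerDifferential P.dimension
  rw [Module.finrank, h, Cardinal.toNat_natCast]

/-- Ranks add along a tower of formally smooth maps of local rings. -/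
theorem finrank_kaehler_tower (A B C : Type u) [CommRing A] [CommRing B] [CommRing C] [Nontrivial C]
    [Algebra A B] [Algebra A C] [Algebra B C] [IsScalarTower A B C] [Algebra.FormallySmooth B C]
    [Module.Free B (KaehlerDifferential A B)] [Module.Finite B (KaehlerDifferential A B)]
    [Module.Free C (KaehlerDifferential B C)] [Module.Finite C (KaehlerDifferential B C)] :
    Module.finrank C (KaehlerDifferential A C) =
      Module.finrank C (KaehlerDifferential B C) + Module.finrank B (KaehlerDifferential A B) := by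
  haveI : Nontrivial B := (algebraMap B C).domain_nontrivial
  let i := KaehlerDifferential.mapBaseChange A B C
  have hi : Function.Injective i := by
    rw [← LinearMap.ker_eq_bot]
    refine le_bot_iff.1 fun v hv => ?_
    obtain ⟨w, rfl⟩ := (Algebra.H1Cotangent.exact_δ_mapBaseChange A B C v).1 hv
    rw [Subsingleton.elim w 0, map_zero]
    exact Submodule.zero_mem _
  obtain ⟨l, hl⟩ := Module.projective_lifting_property (KaehlerDifferential.map A B C C) LinearMap.id
    (KaehlerDifferential.map_surjective A B C)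
  let e := ((KaehlerDifferential.exact_mapBaseChange_map A B C).splitSurjectiveEquiv hi ⟨l, hl⟩).1
  rw [e.finrank_eq, Module.finrank_prod, Module.finrank_baseChange, add_comm]

end GrothLib.SmDim4
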