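import Groth.Agent.Lib.SmDim4.Basic
import Groth.Agent.Lib.OmegaLocal4.Affine
import Groth.Agent.Lib.OmegaUniv.Stalk
import Groth.Agent.Lib.LocFree8.Basic
import Groth.Agent.Lib.QCoh.AvoidSub
import Mathlib

/-! # Differentials of smooth morphisms: rank -/

set_option autoImplicit false
set_option linter.style.haveILetI false
set_option backward.isDefEq.respectTransparency false

universe u
open CategoryTheory AlgebraicGeometry

namespace GrothLib.SmDim4

theorem isFinLocFree_of_formallySmooth {X Y : Scheme.{u}} (f : X ⟶ Y) [LocallyOfFiniteType f]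
    (hf : ∀ (U : X.Opens) (V : Y.Opens), IsAffineOpen U → IsAffineOpen V → ∀ e : U ≤ f ⁻¹ᵁ V,
      (f.appLE V U e).hom.FormallySmooth)
    {Ω' : X.Modules} {d : OmegaSh.Der f Ω'} (hd : OmegaSh.IsUniversal d) : FlatMod.IsFinLocFree Ω' := by
  haveI := GrothLib.OmegaLocal4.isQuasicoherent hd
  have hsec : ∀ (U : X.Opens) (V : Y.Opens) (hU : IsAffineOpen U) (hV : IsAffineOpen V), U ≤ f ⁻¹ᵁ V →
      Module.Projective Γ(X, U) Γ(Ω', U) ∧ Module.FinitePresentation Γ(X, U) Γ(Ω', U) := by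
    intro U V hU hV e
    letI := (f.appLE V U e).hom.toAlgebra
    haveI : Algebra.FormallySmooth Γ(Y, V) Γ(X, U) := hf U V hU hV e
    haveI : Algebra.FiniteType Γ(Y, V) Γ(X, U) :=
      HasRingHomProperty.appLE @LocallyOfFiniteType f inferInstance ⟨V, hV⟩ ⟨U, hU⟩ e
    obtain ⟨i⟩ := GrothLib.OmegaLocal4.nonempty_sections hd hU hV e
    exact ⟨Module.Projective.of_equiv i.symm, Module.FinitePresentation.of_equiv i.symm⟩
  have hflat : FlatMod.IsFlat Ω' := fun x => by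
    obtain ⟨V, hV, hxV, -⟩ := exists_isAffineOpen_mem_and_subset (x := f.base x) (U := ⊤) trivial
    obtain ⟨U, hU, hxU, hUV⟩ := exists_isAffineOpen_mem_and_subset (x := x) (U := f ⁻¹ᵁ V) hxV
    haveI := (hsec U V hU hV hUV).1
    letI := X.presheaf.algebra_section_stalk ⟨x, hxU⟩
    haveI := GrothLib.FlatFP.isLocalization_stalk_primeAt hU hxU
    letI : Module Γ(X, U) (Ω'.presheaf.stalk x) := Module.compHom _ (X.presheaf.germ U x hxU).hom
    haveI : IsScalarTower Γ(X, U) (X.presheaf.stalk x) (Ω'.presheaf.stalk x) :=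
      IsScalarTower.of_algebraMap_smul fun _ _ => rfl
    obtain ⟨l, hl, -⟩ := GrothLib.FlatFP.isLocalizedModule_germ Ω' hU hxU
    haveI := hl
    exact Module.Flat.of_isLocalizedModule (X.presheaf.stalk x) (GrothLib.WeakAss.primeAt x hxU).primeCompl l
  have hc : ∀ x : X, ∃ (U : X.Opens) (V : Y.Opens), IsAffineOpen U ∧ IsAffineOpen V ∧ x ∈ U ∧ U ≤ f ⁻¹ᵁ V := by
    intro x
    obtain ⟨V, hV, hxV, -⟩ := exists_isAffineOpen_mem_and_subset (x := f.base x) (U := ⊤) trivial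
    obtain ⟨U, hU, hxU, hUV⟩ := exists_isAffineOpen_mem_and_subset (x := x) (U := f ⁻¹ᵁ V) hxV
    exact ⟨U, V, hU, hV, hxU, hUV⟩
  choose U V hU hV hxU hUV using hc
  have hcov : TopologicalSpace.IsOpenCover U :=
    TopologicalSpace.IsOpenCover.mk (eq_top_iff.mpr fun x _ => TopologicalSpace.Opens.mem_iSup.mpr ⟨x, hxU x⟩)
  have hfp : CohB1.IsFP Ω' :=
    GrothLib.FlatFP.isFP_of_sections Ω' U hcov hU fun x => (hsec _ _ (hU x) (hV x) (hUV x)).2
  refine (GrothLib.LocFree8.isFinLocFree_iff_fp_free Ω').2 ⟨hfp, fun x => ?_⟩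
  haveI : Module.Flat (X.presheaf.stalk x) (Ω'.presheaf.stalk x) := hflat x
  haveI hft : SheafOfModules.IsFiniteType.{u, u, u} Ω' :=
    GrothLib.QCoh.isFiniteType_of_moduleFinite Ω' U hcov hU fun x =>
      haveI := (hsec _ _ (hU x) (hV x) (hUV x)).2
      inferInstance
  haveI : Module.Finite (X.presheaf.stalk x) (Ω'.presheaf.stalk x) :=
    GrothLib.QCoh.stalk_finite Ω' ⟨‹Ω'.IsQuasicoherent›, hft⟩ x
  exact Module.free_of_flat_of_isLocalRing

/-- The rank of the sheaf of differentials of a smooth morphism is the fibre dimension. -/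
theorem exists_free_nhd {X Y : Scheme.{u}} (f : X ⟶ Y) [Smooth f] {Ω' : X.Modules} {d : OmegaSh.Der f Ω'}
    (hd : OmegaSh.IsUniversal d) (x : X) :
    ∃ (U : X.Opens) (n : ℕ), x ∈ U ∧ Nonempty (Ω'.restrict U.ι ≅ FlatMod.freeMod (↑U) n) ∧
      FlatMor.fibreDimAt f x = (n : WithBot ℕ∞) := by
  have hf : ∀ (U : X.Opens) (V : Y.Opens), IsAffineOpen U → IsAffineOpen V → ∀ e : U ≤ f ⁻¹ᵁ V,
      (f.appLE V U e).hom.FormallySmooth := fun U V hU hV e => by
    have h : (f.appLE V U e).hom.Smooth := HasRingHomProperty.appLE @Smooth f inferInstance ⟨V, hV⟩ ⟨U, hU⟩ e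
    exact ((RingHom.smooth_def).1 h).1
  obtain ⟨U, n, hxU, ⟨φ⟩⟩ := isFinLocFree_of_formallySmooth f hf hd x
  obtain ⟨e, he⟩ := FinCov.exists_frame_of_iso φ
  have hx' : x ∈ U.ι ''ᵁ ⊤ := by rw [Scheme.Opens.ι_image_top]; exact hxU
  let ε := LinearEquiv.ofBijective _ (Ref1.stalk_of_isFrame he x hx')
  obtain ⟨-, -, -, hdim⟩ := kaehler_stalk f x
  refine ⟨U, n, hxU, ⟨φ⟩, ?_⟩
  rw [hdim, Nat.cast_inj]
  letI := OmegaUniv.stalkAlg f x
  let η : Ω'.presheaf.stalk x ≃ₗ[X.presheaf.stalk x] OmegaUniv.Kah f x := OmegaUniv.stalkEquiv x hd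
  exact ((ε.trans η).finrank_eq).symm.trans (Module.finrank_fin_fun _)

end GrothLib.SmDim4
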